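import Cfsg.Agent.Fus.NormalCentralizer.Exists
import Cfsg.Agent.Fus.PPrimeExist.Normal
import Cfsg.Agent.Fus.Comp89.Mono
import Cfsg.Agent.Eq.Def_FusionSystem

/-!
The automorphisms of `R` satisfying the extension condition in a system over a larger subgroup.
-/

set_option autoImplicit false

namespace CfsgLib.Meet

open Cfsg Cfsg.FusionSystem CfsgLib.Fus CfsgLib.NormalCent
open CfsgLib.Fus.PPrimeExist (mem_sup_commuting commute_centralizerIn)

variable {Ω : Type*} [Group Ω] {S R V : Subgroup Ω}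

/-- The extension condition of one automorphism of `R`. -/
def ExtCond (W : Cfsg.FusionSystem V) (R : Subgroup Ω) (α : MulAut R) : Prop :=
  ∃ β ∈ W.autGroup (R ⊔ centralizerIn V R),
    (∀ x : R, ((β (Subgroup.inclusion le_sup_left x) : ↥(R ⊔ centralizerIn V R)) : Ω) =
      ((α x : R) : Ω)) ∧
    ∀ c : ↥(R ⊔ centralizerIn V R), (c : Ω) ∈ centralizerIn V R →
      (c : Ω)⁻¹ * ((β c : ↥(R ⊔ centralizerIn V R)) : Ω) ∈ R ⊓ Subgroup.centralizer (R : Set Ω)

variable {W : Cfsg.FusionSystem V}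

theorem ExtCond.one : ExtCond W R 1 :=
  ⟨1, one_mem _, fun _ => rfl, fun c _ => by
    rw [MulAut.one_apply, inv_mul_cancel]
    exact one_mem _⟩

theorem ExtCond.mul {a b : MulAut R} (ha : ExtCond W R a) (hb : ExtCond W R b) :
    ExtCond W R (a * b) := by
  obtain ⟨α, hα, hαR, hαC⟩ := ha
  obtain ⟨β, hβ, hβR, hβC⟩ := hb
  have hαx : ∀ x : R, α (Subgroup.inclusion le_sup_left x) = Subgroup.inclusion le_sup_left (a x) :=
    fun x => Subtype.ext (hαR x)
  refine ⟨α * β, mul_mem hα hβ, fun x => ?_, fun c hc => ?_⟩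
  · rw [MulAut.mul_apply, MulAut.mul_apply, show β (Subgroup.inclusion le_sup_left x) =
      Subgroup.inclusion le_sup_left (b x) from Subtype.ext (hβR x), hαx]
    rfl
  · obtain ⟨hz, hzC⟩ := hβC c hc
    set z : R := ⟨_, hz⟩ with hzd
    have e : β c = c * Subgroup.inclusion le_sup_left z := Subtype.ext (by
      show ((β c : ↥(R ⊔ centralizerIn V R)) : Ω) = c * ((c : Ω)⁻¹ * _)
      rw [mul_inv_cancel_left])
    have haz : ((a z : R) : Ω) ∈ R ⊓ Subgroup.centralizer (R : Set Ω) := by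
      refine ⟨(a z).2, fun y hy => ?_⟩
      obtain ⟨x, hx⟩ := a.surjective ⟨y, hy⟩
      have h1 : a (x * z) = a (z * x) := congrArg a (Subtype.ext (hzC x x.2))
      rw [map_mul, map_mul, hx] at h1
      exact congrArg Subtype.val h1
    rw [MulAut.mul_apply, e, map_mul, hαx, Subgroup.coe_mul, ← mul_assoc]
    exact mul_mem (hαC c hc) haz

/-- The subgroup they form. -/
def extGroup (W : Cfsg.FusionSystem V) (R : Subgroup Ω) : Subgroup (MulAut R) :=
  Subgroup.closure {α | ExtCond W R α}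

theorem mem_extGroup [Finite R] {α : MulAut R} : α ∈ extGroup W R ↔ ExtCond W R α := by
  refine ⟨fun ha => ?_, fun h => Subgroup.subset_closure h⟩
  have := finite_mulAut R
  have hpow : ∀ (x : MulAut R) (n : ℕ), ExtCond W R x → ExtCond W R (x ^ n) := by
    intro x n hx
    induction n with
    | zero => rw [pow_zero]; exact ExtCond.one
    | succ n ih => rw [pow_succ]; exact ih.mul hx
  refine Subgroup.closure_induction (p := fun a _ => ExtCond W R a) (fun x hx => hx)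
    ExtCond.one (fun x y _ _ hx hy => hx.mul hy) (fun x _ hx => ?_) ha
  have h1 : x⁻¹ = x ^ (orderOf x - 1) := inv_eq_of_mul_eq_one_right (by
    rw [← pow_succ', Nat.sub_add_cancel (orderOf_pos x), pow_orderOf_eq_one])
  rw [h1]
  exact hpow x _ hx

variable {F : Cfsg.FusionSystem S} {p : ℕ} [Finite S] [Fact p.Prime]

/-- The subgroup is normalized by `Aut_F(R)`. -/
theorem ExtCond.conj (hS : IsPGroup p S) (hF : F.IsSaturated p) (hR : F.StronglyClosed R)
    (hV : F.StronglyClosed V) (hRV : R ≤ V)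
    (hW : ∀ {L : Subgroup Ω} {φ : L →* Ω}, L ≤ V → ∀ (hφ : φ ∈ F.Hom L) (hr : φ.range = L),
      ∀ b ∈ W.autGroup L, MulAut.congr (isoOf hφ hr) b ∈ W.autGroup L)
    {a b : MulAut R} (ha : a ∈ F.autGroup R) (hb : ExtCond W R b) :
    ExtCond W R (a * b * a⁻¹) := by
  have hRS := hR.1
  have : Finite R := finite_of_le hRS
  obtain ⟨σ, hσ, hσe, hσi⟩ := exists_mor_of_aut hRS (⟨a, ha⟩ : F.autGroup R)
  have hfn : F.IsFullyNormalized R := by
    refine ⟨hRS, fun Q hQ => ?_⟩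
    obtain ⟨f, hf, hfi⟩ := exists_mor_of_isConj hQ
    have e : Q = R := SetLike.coe_injective
      (hfi.symm.trans (image_eq hf fun x hx => Comp89.mor_mem_closed hR hf hx hx))
    rw [e]
  set C := centralizerIn S R
  have hcomm := commute_centralizerIn (S := S) (le_refl R)
  have hLN : R ⊔ C ≤ normalizerIn S R :=
    sup_le (le_normalizerIn hRS) (centralizerIn_le_normalizerIn R)
  obtain ⟨τ, hτ, hτe⟩ := hσ.exists_ext hσi (fullyNormalized_props hS hF hfn).2 le_sup_left hLN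
    fun l hl => by
      obtain ⟨r, hr, c, hc, rfl⟩ := mem_sup_commuting hcomm hl
      refine ⟨σ r, hσ.mem hr, fun x hx => ?_⟩
      rw [show r * c * x * (r * c)⁻¹ = r * (c * x * c⁻¹) * r⁻¹ by group, ← hc.2 x hx,
        mul_inv_cancel_right, hσ.map_conj hr hx]
  have hτR : ∀ x : R, τ x = ((a x : R) : Ω) := fun x => (hτe x x.2).trans (hσe x)
  have hCS : centralizerIn V R ≤ C := fun x hx => ⟨hV.1 hx.1, hx.2⟩
  set L := R ⊔ centralizerIn V R with hLdef
  have hLS : L ≤ R ⊔ C := sup_le_sup_left hCS R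
  have hLV : L ≤ V := sup_le hRV inf_le_left
  have hτC : ∀ c ∈ centralizerIn V R, τ c ∈ centralizerIn V R := fun c hc => by
    have hcL : c ∈ R ⊔ C := Subgroup.mem_sup_right (hCS hc)
    refine ⟨Comp89.mor_mem_closed hV hτ hcL hc.1, fun y hy => ?_⟩
    obtain ⟨x, hx⟩ := a.surjective ⟨y, hy⟩
    have e : τ (x : Ω) = y := (hτR x).trans (congrArg Subtype.val hx)
    rw [← e, ← hτ.map_mul (Subgroup.mem_sup_left x.2) hcL,
      ← hτ.map_mul hcL (Subgroup.mem_sup_left x.2), hc.2 x x.2]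
  have hτL := hτ.restrict hLS
  have hτm : ∀ x ∈ L, τ x ∈ L := fun x hx => mem_of_sup hτL le_rfl
    (fun y hy => Subgroup.mem_sup_left ((hτR ⟨y, hy⟩).symm ▸ (a ⟨y, hy⟩).2))
    (fun y hy => Subgroup.mem_sup_right (hτC y hy)) hx
  have : Finite L := finite_of_le (hLS.trans (sup_le hRS (centralizerIn_le R)))
  have himg := image_eq hτL hτm
  obtain ⟨φ, hφ, hφe⟩ := hτL
  have hr : φ.range = L := SetLike.coe_injective (by
    rw [← himg]
    ext y
    constructor
    · rintro ⟨x, rfl⟩; exact ⟨x, x.2, (hφe x).symm⟩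
    · rintro ⟨x, hx, rfl⟩; exact ⟨⟨x, hx⟩, hφe _⟩)
  obtain ⟨β, hβ, hβR, hβC⟩ := hb
  refine ⟨_, hW hLV hφ hr β hβ, fun x => ?_, fun c hc => ?_⟩
  · obtain ⟨x', rfl⟩ := a.surjective x
    have e : Subgroup.inclusion (le_sup_left : R ≤ L) (a x') =
        isoOf hφ hr (Subgroup.inclusion le_sup_left x') := Subtype.ext (by
      rw [isoOf_apply, hφe]; exact (hτR x').symm)
    rw [e]
    show ((isoOf hφ hr (β ((isoOf hφ hr).symm (isoOf hφ hr _))) : ↥L) : Ω) = _
    rw [MulEquiv.symm_apply_apply, isoOf_apply, hφe, hβR, hτR, MulAut.mul_apply, MulAut.mul_apply,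
      MulAut.inv_apply_self]
  · obtain ⟨c', rfl⟩ := (isoOf hφ hr).surjective c
    have hc' : (c' : Ω) ∈ centralizerIn V R := by
      refine ⟨hLV c'.2, fun y hy => ?_⟩
      rw [isoOf_apply, hφe] at hc
      have hyL : y ∈ L := Subgroup.mem_sup_left hy
      refine hτ.injOn (hLS (L.mul_mem hyL c'.2)) (hLS (L.mul_mem c'.2 hyL)) ?_
      rw [hτ.map_mul (hLS hyL) (hLS c'.2), hτ.map_mul (hLS c'.2) (hLS hyL)]
      exact hc.2 _ ((hτR ⟨y, hy⟩).symm ▸ (a ⟨y, hy⟩).2)
    obtain ⟨hz, hzC⟩ := hβC c' hc'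
    show ((isoOf hφ hr c' : ↥L) : Ω)⁻¹ *
      ((isoOf hφ hr (β ((isoOf hφ hr).symm (isoOf hφ hr c'))) : ↥L) : Ω) ∈ _
    rw [MulEquiv.symm_apply_apply, isoOf_apply, isoOf_apply, ← map_inv, ← map_mul,
      hφe]
    set z : R := ⟨_, hz⟩
    show τ (z : Ω) ∈ R ⊓ Subgroup.centralizer (R : Set Ω)
    refine ⟨(hτR z).symm ▸ (a z).2, fun y hy => ?_⟩
    obtain ⟨x, hx⟩ := a.surjective ⟨y, hy⟩
    have h1 : a (x * z) = a (z * x) := congrArg a (Subtype.ext (hzC x x.2))
    rw [map_mul, map_mul, hx] at h1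
    rw [hτR z]
    exact congrArg Subtype.val h1

end CfsgLib.Meet
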