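import Cfsg.Agent.Fus.Meet.Map
import Cfsg.Agent.Fus.Meet.Largest.ExtCond
import Cfsg.Agent.Fus.Comp89.Steps
import Cfsg.Agent.Fus.PPrimeExist.Between

/-!
The group `Γ` of common automorphisms of `R = T₁ ⊓ T₂` satisfying the three extension conditions, and
the system generated over a system of common maps.
-/

set_option autoImplicit false

namespace CfsgLib.Meet

open Cfsg Cfsg.FusionSystem CfsgLib.Fus CfsgLib.NormalCent
open CfsgLib.Fus.PPrimeExist (onT autGroup_onT)

variable {Ω : Type*} [Group Ω] {S T T₁ T₂ P R : Subgroup Ω} {F : Cfsg.FusionSystem S}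
  {E : Cfsg.FusionSystem T} {E₁ : Cfsg.FusionSystem T₁} {E₂ : Cfsg.FusionSystem T₂} {p : ℕ}

theorem closed_sub (hR : F.StronglyClosed R) (hE : E.IsSubsystemOf F) (hRT : R ≤ T) :
    E.StronglyClosed R :=
  ⟨hRT, fun Q hQ φ hφ x => hR.2 Q hQ φ (hE Q hφ) x⟩

theorem congr_inv_congr {P P' : Subgroup Ω} {φ : P →* Ω} (hφ : φ ∈ F.Hom P) (hr : φ.range = P')
    {a : MulAut P} (hE : E.IsInvariantIn F) (hP' : P' ≤ T)
    (h : MulAut.congr (isoOf hφ hr) a ∈ E.autGroup P') : a ∈ E.autGroup P := by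
  have hsm := isoOf_symm_mem hφ hr
  have h1 := NormalOverSylow.congr_mem_of_invariant hE hP' hsm
    (range_subtype_comp (isoOf hφ hr).symm) h
  have e : isoOf hsm (range_subtype_comp (isoOf hφ hr).symm) = (isoOf hφ hr).symm :=
    MulEquiv.ext fun y => Subtype.ext (isoOf_apply _ _ _)
  rw [e] at h1
  convert h1 using 1
  refine MulEquiv.ext fun x => ?_
  show _ = (isoOf hφ hr).symm (isoOf hφ hr (a ((isoOf hφ hr).symm ((isoOf hφ hr).symm.symm x))))
  rw [MulEquiv.symm_symm, MulEquiv.symm_apply_apply, MulEquiv.symm_apply_apply]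

/-- The family lies in the automizers of both subsystems. -/
theorem Setting.amap_le_common [Finite S] (G : Setting F E₁ E₂ p)
    (hP : TCentric F (T₁ ⊓ T₂) P) : amap p F E₁ E₂ P ≤ common E₁ E₂ P := by
  intro a ha
  obtain ⟨P', hc, hn⟩ := exists_fullyNormalized F (G.le_S (hP.1.trans inf_le_left))
  obtain ⟨φ, hφ, hr⟩ := hc
  have hP' : P' ≤ T₁ ⊓ T₂ := (G.tcentric_congr hP hφ hr).1
  have h1 := mem_amap.1 ha P' φ hφ hr hn
  have hle : amap₀ p F E₁ E₂ P' ≤ common E₁ E₂ P' := sup_le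
    (le_inf ((autInducedBy_mono inf_le_left).trans
        (autInducedBy_le_autGroup E₁ (hP'.trans inf_le_left)))
      ((autInducedBy_mono inf_le_right).trans
        (autInducedBy_le_autGroup E₂ (hP'.trans inf_le_right))))
    (core'_le.trans liftGroup_le_common)
  exact ⟨congr_inv_congr hφ hr G.w₁.2.2 (hP'.trans inf_le_left) (hle h1).1,
    congr_inv_congr hφ hr G.w₂.2.2 (hP'.trans inf_le_right) (hle h1).2⟩

/-- A system contained in those generated by the family is contained in both subsystems. -/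
theorem Setting.gen_le_both [Finite S] (G : Setting F E₁ E₂ p)
    {D : Cfsg.FusionSystem (T₁ ⊓ T₂ : Subgroup Ω)}
    (hgen : ∀ D' : Cfsg.FusionSystem (T₁ ⊓ T₂ : Subgroup Ω),
      (∀ P, TCentric F (T₁ ⊓ T₂) P → amap p F E₁ E₂ P ≤ D'.autGroup P) → D.IsSubsystemOf D') :
    D.IsSubsystemOf E₁ ∧ D.IsSubsystemOf E₂ := by
  constructor
  · have hc := closed_sub G.closed G.w₁.2.2.1 inf_le_left
    have h := hgen (onT E₁ hc) fun P hP a ha => (mem_autGroup_iff _ hP.1).2
      ⟨hP.1, (mem_autGroup_iff E₁ (hP.1.trans inf_le_left)).1 (G.amap_le_common hP ha).1⟩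
    exact fun Q φ hφ => (h Q hφ).2
  · have hc := closed_sub G.closed G.w₂.2.2.1 inf_le_right
    have h := hgen (onT E₂ hc) fun P hP a ha => (mem_autGroup_iff _ hP.1).2
      ⟨hP.1, (mem_autGroup_iff E₂ (hP.1.trans inf_le_right)).1 (G.amap_le_common hP ha).2⟩
    exact fun Q φ hφ => (h Q hφ).2

end CfsgLib.Meet
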