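import Cfsg.Agent.Fus.Meet.Extend
import Cfsg.Agent.Fus.Meet.Largest.Under
import Cfsg.Agent.Fus.InvariantCompare
import Cfsg.Agent.Eq.Def_FusionSystem

/-!
The largest subsystem over `T₁ ⊓ T₂` normal in `F` and in two subsystems weakly normal in `F`, from a
weakly normal system generated by the common lifted family.
-/

set_option autoImplicit false

namespace CfsgLib.Meet

open Cfsg Cfsg.FusionSystem CfsgLib.Fus CfsgLib.NormalCent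
open CfsgLib.Fus.PPrimeExist (onT autGroup_onT residual invCore)

variable {Ω : Type*} [Group Ω] {S T₁ T₂ : Subgroup Ω} {F : Cfsg.FusionSystem S}
  {E₁ : Cfsg.FusionSystem T₁} {E₂ : Cfsg.FusionSystem T₂} {p : ℕ} [Finite S] [Fact p.Prime]

omit [Fact p.Prime] in
theorem Setting.top_props (G : Setting F E₁ E₂ p) :
    TCentric F (T₁ ⊓ T₂) (T₁ ⊓ T₂) ∧ F.IsFullyNormalized (T₁ ⊓ T₂) := by
  have hR := G.closed
  have : Finite (T₁ ⊓ T₂ : Subgroup Ω) := finite_of_le hR.1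
  refine ⟨⟨le_rfl, fun f hf c hc _ => ?_⟩, hR.1, fun Q hQ => ?_⟩
  · exact (image_eq hf fun x hx => Comp89.mor_mem_closed hR hf hx hx).symm.subset hc
  · obtain ⟨f, hf, hfi⟩ := exists_mor_of_isConj hQ
    have e : Q = T₁ ⊓ T₂ := SetLike.coe_injective
      (hfi.symm.trans (image_eq hf fun x hx => Comp89.mor_mem_closed hR hf hx hx))
    rw [e]

omit [Fact p.Prime] [Finite S] in
/-- The extension condition in the whole system gives a lift trivial modulo `R`. -/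
theorem ExtCond.liftsQ {R : Subgroup Ω} (hRS : R ≤ S) {a : MulAut R} (h : ExtCond F R a) :
    LiftsQ F R a := by
  obtain ⟨b, hb, hbT, hbc⟩ := h
  obtain ⟨f, hf, hfb, -⟩ := exists_mor_of_aut (sup_le hRS (centralizerIn_le R)) ⟨b, hb⟩
  refine ⟨f, hf, fun x => (hfb (Subgroup.inclusion le_sup_left x)).trans (hbT x), fun c hc => ?_⟩
  rw [hfb ⟨c, Subgroup.mem_sup_right hc⟩]
  exact (hbc ⟨c, Subgroup.mem_sup_right hc⟩ hc).1

/-- The largest system normal in the three, from a weakly normal system of common maps. -/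
theorem exists_largest (hS : IsPGroup p S) (G : Setting F E₁ E₂ p)
    (D : Cfsg.FusionSystem (T₁ ⊓ T₂ : Subgroup Ω)) (hD : D.IsWeaklyNormalIn F p)
    (htop : amap p F E₁ E₂ (T₁ ⊓ T₂) ≤ D.autGroup (T₁ ⊓ T₂))
    (hmin : ∀ D' : Cfsg.FusionSystem (T₁ ⊓ T₂ : Subgroup Ω),
      (∀ P, TCentric F (T₁ ⊓ T₂) P → amap p F E₁ E₂ P ≤ D'.autGroup P) → D.IsSubsystemOf D') :
    ∃ M : Cfsg.FusionSystem (T₁ ⊓ T₂ : Subgroup Ω),
      (M.IsNormalIn F p ∧ M.IsNormalIn E₁ p ∧ M.IsNormalIn E₂ p) ∧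
      ∀ D' : Cfsg.FusionSystem (T₁ ⊓ T₂ : Subgroup Ω), D'.IsNormalIn F p → D'.IsNormalIn E₁ p →
        D'.IsNormalIn E₂ p → D'.IsSubsystemOf M := by
  obtain ⟨hDE₁, hDE₂⟩ := G.gen_le_both hmin
  obtain ⟨hDs, hF, hDi⟩ := id hD
  have hR : F.StronglyClosed (T₁ ⊓ T₂) := G.closed
  have hRS := hR.1
  have hT₁S : T₁ ≤ S := G.w₁.2.2.2.1.1
  have hT₂S : T₂ ≤ S := G.w₂.2.2.2.1.1
  have : Finite (T₁ ⊓ T₂ : Subgroup Ω) := finite_of_le hRS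
  have : Finite T₁ := finite_of_le hT₁S
  have : Finite T₂ := finite_of_le hT₂S
  have hRp : IsPGroup p (T₁ ⊓ T₂ : Subgroup Ω) := hS.to_le hRS
  set Γ := D.autGroup (T₁ ⊓ T₂) ⊓ extGroup F (T₁ ⊓ T₂) ⊓ extGroup E₁ (T₁ ⊓ T₂) ⊓ extGroup E₂ (T₁ ⊓ T₂) with hΓ
  have hΓD : Γ ≤ D.autGroup (T₁ ⊓ T₂) := inf_le_left.trans (inf_le_left.trans inf_le_left)
  have hmemΓ : ∀ {a : MulAut (T₁ ⊓ T₂ : Subgroup Ω)}, a ∈ Γ ↔ a ∈ D.autGroup (T₁ ⊓ T₂) ∧ ExtCond F (T₁ ⊓ T₂) a ∧ ExtCond E₁ (T₁ ⊓ T₂) a ∧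
      ExtCond E₂ (T₁ ⊓ T₂) a := fun {a} => by
    simp only [hΓ, Subgroup.mem_inf, mem_extGroup, and_assoc]
  have hDw₁ : D.IsWeaklyNormalIn E₁ p :=
    Comp89.weaklyNormal_restrict hS hD G.w₁.1 G.w₁.2.2.1 hDE₁
  have hDw₂ : D.IsWeaklyNormalIn E₂ p :=
    Comp89.weaklyNormal_restrict hS hD G.w₂.1 G.w₂.2.2.1 hDE₂
  have hres := PPrimeExist.isPPrimeResidual_residual hRp hDs
  have hgΓ : PPrimeExist.gamma p D ≤ Γ := fun a ha => hmemΓ.2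
    ⟨PPrimeExist.gamma_le p D ha,
      (PPrimeExist.isNormalIn_residual hS hD hres).2 a (PPrimeExist.gamma_le_residual p D ha),
      (PPrimeExist.isNormalIn_residual (hS.to_le hT₁S) hDw₁ hres).2 a
        (PPrimeExist.gamma_le_residual p D ha),
      (PPrimeExist.isNormalIn_residual (hS.to_le hT₂S) hDw₂ hres).2 a
        (PPrimeExist.gamma_le_residual p D ha)⟩
  have hconjΓ : ∀ a ∈ F.autGroup (T₁ ⊓ T₂), ∀ b ∈ Γ, a * b * a⁻¹ ∈ Γ := by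
    intro a ha b hb
    obtain ⟨hbD, hbF, hb₁, hb₂⟩ := hmemΓ.1 hb
    have hh := (mem_autGroup_iff F hRS).1 ha
    refine hmemΓ.2 ⟨?_, ?_, ?_, ?_⟩
    · have h1 := NormalOverSylow.congr_mem_of_invariant hDi le_rfl hh (range_subtype_comp _) hbD
      rwa [Fusion.Alperin.congr_subtype_comp hh] at h1
    · exact hbF.conj hS hF hR ⟨le_rfl, fun Q _ φ hφ x => hom_mem F hφ x⟩ hRS
        (fun _ hφ hr β hβ => congr_mem_autGroup hφ hr hβ) ha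
    · exact hb₁.conj hS hF hR G.w₁.2.2.2.1 inf_le_left
        (fun hL hφ hr β hβ => NormalOverSylow.congr_mem_of_invariant G.w₁.2.2 hL hφ hr hβ) ha
    · exact hb₂.conj hS hF hR G.w₂.2.2.2.1 inf_le_right
        (fun hL hφ hr β hβ => NormalOverSylow.congr_mem_of_invariant G.w₂.2.2 hL hφ hr hβ) ha
  set M := PPrimeExist.Between.sys (p := p) Γ hΓD with hM
  have hMD : M.IsSubsystemOf D := PPrimeExist.Between.sys_sub Γ hΓD
  have hMs : M.IsSaturated p := PPrimeExist.Between.sys_saturated hRp hDs hgΓ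
  have hMaut : M.autGroup (T₁ ⊓ T₂) ≤ Γ := fun a ha =>
    PPrimeExist.Between.mem_G (hΓF := hΓD) hRp hDs hgΓ (autGroup_mono hMD (T₁ ⊓ T₂) ha) (isCentric_top D)
      (hom_congr M ((mem_autGroup_iff M le_rfl).1 ha) fun x => (autHom_apply a le_rfl x).trans
        (autFun_apply a x.2))
  have hEInv : ∀ {P : Subgroup Ω} {φ : P →* Ω}, φ ∈ M.Hom P → EInv (onT F hR) M P φ := by
    intro P φ hφ
    refine PPrimeExist.least_le (D := invCore (onT F hR) M)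
      ⟨fun Q hQ α hα => (mem_autGroup_iff _ hQ.1).2
        (PPrimeExist.eInv_pGen hDi (PPrimeExist.Between.sys_gen Γ hΓD) hQ hα), fun γ hγ => ?_⟩ P hφ
    refine (mem_autGroup_iff _ le_rfl).2
      ⟨PPrimeExist.sub_onT hDi (T₁ ⊓ T₂) ((mem_autGroup_iff D le_rfl).1 (hΓD hγ)), fun a ha => ?_⟩
    have haF := (autGroup_onT hR).1 ha
    have h1 : a * γ * a⁻¹ ∈ M.autGroup (T₁ ⊓ T₂) :=
      PPrimeExist.Between.Γ_le_sys Γ hΓD (hconjΓ a haF γ hγ)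
    refine ⟨_, restrict_mem _ ((mem_autGroup_iff _ le_rfl).1 h1) (autImg_le a (T₁ ⊓ T₂)), fun x hx => ?_⟩
    show (((a * γ * a⁻¹) ⟨autFun a x, _⟩ : (T₁ ⊓ T₂ : Subgroup Ω)) : Ω) = autFun a ((γ x : (T₁ ⊓ T₂ : Subgroup Ω)) : Ω)
    rw [MulAut.mul_apply, MulAut.mul_apply, autFun_apply a (γ x).2]
    congr 2
    refine congrArg γ ?_
    rw [show (⟨autFun a (x : Ω), (autImg_le a (T₁ ⊓ T₂)) hx⟩ : (T₁ ⊓ T₂ : Subgroup Ω)) = a x from
      Subtype.ext (autFun_apply a x.2)]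
    exact a.symm_apply_apply x
  have hMw : M.IsWeaklyNormalIn F p := by
    refine ⟨hMs, hF, fun P φ hφ => hDi.1 P (hMD P hφ), hR, fun P hPR φ hφ a ha => ?_,
      fun P hPR φ hφ => ?_⟩
    · obtain ⟨χ, hχ, hχe⟩ := (hEInv hφ).2 a ((autGroup_onT hR).2 ha)
      refine ⟨χ, hχ, fun x hφx hax => ?_⟩
      rw [← autFun_apply a hφx]
      refine Eq.trans ?_ (hχe x (autFun_mem_autImg a hPR x.2))
      congr 1
      exact Subtype.ext (autFun_apply a (hPR x.2)).symm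
    · obtain ⟨a, ha, φ₀, hφ₀, he⟩ := hDi.2.2.2 P hPR φ hφ
      obtain ⟨c, hc, φ₁, hφ₁, he₁⟩ :=
        (PPrimeExist.Between.sys_props (Γ := Γ) (hΓF := hΓD) hRp hDs).2.1 P φ₀ hφ₀
      refine ⟨a * c, mul_mem ha (autGroup_mono hDi.1 (T₁ ⊓ T₂) hc), φ₁, hφ₁, fun x hx => ?_⟩
      rw [he x (hom_mem D hφ₀ x)]
      show _ = ((a (c ⟨φ₁ x, hx⟩) : (T₁ ⊓ T₂ : Subgroup Ω)) : Ω)
      congr 2
      exact Subtype.ext (he₁ x hx)
  refine ⟨M, ⟨⟨hMw, fun a ha => (hmemΓ.1 (hMaut ha)).2.1⟩,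
    ⟨Comp89.weaklyNormal_restrict hS hMw G.w₁.1 G.w₁.2.2.1 fun P φ hφ => hDE₁ P (hMD P hφ),
      fun a ha => (hmemΓ.1 (hMaut ha)).2.2.1⟩,
    ⟨Comp89.weaklyNormal_restrict hS hMw G.w₂.1 G.w₂.2.2.1 fun P φ hφ => hDE₂ P (hMD P hφ),
      fun a ha => (hmemΓ.1 (hMaut ha)).2.2.2⟩⟩, fun D' h₀ h₁ h₂ P φ hφ => ?_⟩
  refine hom_mem_of_invariant hRp h₀.1.1 h₀.1.2.2.1 hMw.2.2 ?_ hφ
  have := finite_mulAut (T₁ ⊓ T₂ : Subgroup Ω)
  obtain ⟨htc, hfn⟩ := G.top_props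
  set J := (D.autGroup (T₁ ⊓ T₂)).subgroupOf (D'.autGroup (T₁ ⊓ T₂)) with hJ
  obtain ⟨U⟩ : Nonempty (Sylow p (D'.autGroup (T₁ ⊓ T₂))) := inferInstance
  have hJtop : J = ⊤ := by
    refine eq_top_of_sylow_of_coprime U (fun u hu => ?_) fun g hg => ?_
    · obtain ⟨k, hk⟩ := U.isPGroup' ⟨u, hu⟩
      refine autInducedBy_le_autGroup D le_rfl (PPrimeExist.mem_inn_of_pElement hS hRS h₀.1.1 u.2
        (k := k) ?_)
      exact congrArg Subtype.val (congrArg Subtype.val hk : (u : D'.autGroup (T₁ ⊓ T₂)) ^ p ^ k = 1)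
    · refine htop ?_
      rw [G.amap_eq hS htc hfn]
      refine Subgroup.mem_sup_right (mem_core' ((mem_liftGroup_iff hRS).2 ⟨⟨?_, ?_⟩, ?_⟩) ?_)
      · exact autGroup_mono h₁.1.2.2.1 (T₁ ⊓ T₂) g.2
      · exact autGroup_mono h₂.1.2.2.1 (T₁ ⊓ T₂) g.2
      · exact ExtCond.liftsQ hRS (h₀.2 g g.2)
      · rwa [Subgroup.subtype_apply, Subgroup.orderOf_coe]
  intro a ha
  refine PPrimeExist.Between.Γ_le_sys Γ hΓD (hmemΓ.2 ⟨?_, h₀.2 a ha, h₁.2 a ha, h₂.2 a ha⟩)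
  have h : (⟨a, ha⟩ : D'.autGroup (T₁ ⊓ T₂)) ∈ J := hJtop ▸ Subgroup.mem_top _
  exact h

end CfsgLib.Meet
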